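import Cfsg.Agent.CoTwoUniq.Enum.CheckSteps0
import Cfsg.Agent.CoTwoUniq.Enum.CheckSteps1
import Cfsg.Agent.CoTwoUniq.Enum.CheckCover
import Cfsg.Agent.CoTwoUniq.Enum.CheckNodes0
import Cfsg.Agent.CoTwoUniq.Enum.CheckNodes1

/-! Generated by tools/dcoset/emit.py: assembled certificate. -/

set_option Elab.async false
set_option maxRecDepth 100000

namespace Cfsg.Agent.CoTwoUniq.Enum

open Cfsg.Agent.DCoset Cfsg.Agent.CosetCert

theorem upTo_0 : allFrom (Steps.check steps rules tab) 0 250 = true := steps_0

theorem upTo_1 : allFrom (Steps.check steps rules tab) 0 500 = true :=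
  allFrom_append (n := 250) 250 upTo_0 steps_1

theorem upTo_2 : allFrom (Steps.check steps rules tab) 0 750 = true :=
  allFrom_append (n := 250) 500 upTo_1 steps_2

theorem upTo_3 : allFrom (Steps.check steps rules tab) 0 1000 = true :=
  allFrom_append (n := 250) 750 upTo_2 steps_3

theorem upTo_4 : allFrom (Steps.check steps rules tab) 0 1250 = true :=
  allFrom_append (n := 250) 1000 upTo_3 steps_4

theorem upTo_5 : allFrom (Steps.check steps rules tab) 0 1500 = true :=
  allFrom_append (n := 250) 1250 upTo_4 steps_5

theorem upTo_6 : allFrom (Steps.check steps rules tab) 0 1750 = true :=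
  allFrom_append (n := 250) 1500 upTo_5 steps_6

theorem upTo_7 : allFrom (Steps.check steps rules tab) 0 2000 = true :=
  allFrom_append (n := 250) 1750 upTo_6 steps_7

theorem upTo_8 : allFrom (Steps.check steps rules tab) 0 2250 = true :=
  allFrom_append (n := 250) 2000 upTo_7 steps_8

theorem upTo_9 : allFrom (Steps.check steps rules tab) 0 2500 = true :=
  allFrom_append (n := 250) 2250 upTo_8 steps_9

theorem upTo_10 : allFrom (Steps.check steps rules tab) 0 2750 = true :=
  allFrom_append (n := 250) 2500 upTo_9 steps_10

theorem upTo_11 : allFrom (Steps.check steps rules tab) 0 2934 = true :=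
  allFrom_append (n := 184) 2750 upTo_10 steps_11

theorem steps_ok : ∀ s, s < steps.len → Steps.check steps rules tab s = true :=
  fun _ hs => allFrom_all (n := 2934) upTo_11 hs

theorem node_src : ∀ j, 1 ≤ j → j < steps.nNode → steps.nodeSrc j < j := fun j h1 h2 =>
  Nat.ble_eq.mp ((allFrom_iff _ _ _).1 src_all j h1 (by change j < 8 at h2; omega))

/-- The sum of the suborbit lengths. -/
theorem idx_sum : ((List.range cover.nLive).map cover.idx).sum = 46575 := by
  decide +kernel

theorem valid : cover.Valid steps rules tab 908328960 where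
  nP_pos := by decide
  live_zero := ⟨by decide, by decide +kernel⟩
  u_ok l hl := allFrom_all u_all hl
  tr_ok c hc := allFrom_all tr_all hc
  stab_ok m a hm ha := allFrom_all (allFrom_all stab_all hm : allFrom _ 0 (nStab m) = true) ha
  point_ok m c hm hc := by
    change m < 5 at hm
    interval_cases m
    · exact allFrom_all point_0 hc
    · exact allFrom_all point_1 hc
    · exact allFrom_all point_2 hc
    · exact allFrom_all point_3 hc
    · exact allFrom_all point_4 hc
  chain_gen m l a hm hl ha := by
    change m < 5 at hm
    interval_cases m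
    · exact allFrom_all (allFrom_all gen_0 hl : _) ha
    · exact allFrom_all (allFrom_all gen_1 hl : _) ha
    · exact allFrom_all (allFrom_all gen_2 hl : _) ha
    · exact allFrom_all (allFrom_all gen_3 hl : _) ha
    · exact allFrom_all (allFrom_all gen_4 hl : _) ha
  chain_pt m l j hm hl hj := by
    change m < 5 at hm
    interval_cases m
    · exact allFrom_all (allFrom_all pt_0 hl : _) hj
    · exact allFrom_all (allFrom_all pt_1 hl : _) hj
    · exact allFrom_all (allFrom_all pt_2 hl : _) hj
    · exact allFrom_all (allFrom_all pt_3 hl : _) hj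
    · exact allFrom_all (allFrom_all pt_4 hl : _) hj
  chain_mem m l a hm hl ha := by
    refine ⟨chOff (m * 5 + l) + a, ?_, rfl⟩
    have h := Nat.ble_eq.mp (allFrom_all (allFrom_all bounds_all hm : allFrom _ 0 5 = true) hl)
    change a < chCnt (m * 5 + l) at ha
    change chOff (m * 5 + l) + chCnt (m * 5 + l) ≤ nStab m at h
    change chOff (m * 5 + l) + a < nStab m
    omega
  idx_eq := by
    intro m hm
    change m < 5 at hm
    interval_cases m
    · decide +kernel
    · decide +kernel
    · decide +kernel
    · decide +kernel
    · decide +kernel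

end Cfsg.Agent.CoTwoUniq.Enum
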